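/- Certificate data for the small orthogonal crossed homomorphism computations. -/
import Mathlib

namespace CfsgLib.H1Small

def a4 : List (ℕ × ℕ) := [(3, 5), (4, 8)]
def b4 : List (ℕ × ℕ) := [(3, 10)]
def tree4 : List (ℕ × ℕ × List Bool) :=
  [(5, 3, [true, false, false, false, true, true, false, true]),
   (6, 3, [false, true, true, false, false, true, true]),
   (8, 5, [false, true, true, false, true]),
   (9, 3, [true]),
   (10, 3, [true, true]),
   (12, 5, [true, false, false, false, true, true, false]),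
   (13, 3, [false, false, false, true, true, false, false, true]),
   (14, 3, [true, true, false, false, true, true, false]),
   (4, 8, [true, false, false, false, true])]
def root4 : ℕ := 3
def table4 : List (List ℕ) :=
  [[], [3], [4], [5], [6], [8],
   [9], [10], [12], [13], [14], [4, 3],
   [5, 3], [6, 3], [8, 3], [9, 3], [10, 3], [12, 3],
   [13, 3], [14, 3], [5, 4], [6, 4], [8, 4], [9, 4],
   [10, 4], [12, 4], [13, 4], [14, 4], [8, 5], [9, 5],
   [10, 5], [12, 5], [13, 5], [14, 5], [8, 6], [9, 6],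
   [10, 6], [12, 6], [13, 6], [14, 6], [9, 8], [10, 8],
   [14, 9], [13, 10], [13, 12], [14, 12], [5, 4, 3], [6, 4, 3],
   [8, 4, 3], [9, 4, 3], [10, 4, 3], [12, 4, 3], [13, 4, 3], [14, 4, 3],
   [8, 5, 3], [9, 5, 3], [10, 5, 3], [12, 5, 3], [13, 5, 3], [14, 5, 3],
   [8, 6, 3], [9, 6, 3], [10, 6, 3], [12, 6, 3], [13, 6, 3], [14, 6, 3],
   [9, 8, 3], [10, 8, 3], [14, 9, 3], [13, 10, 3], [13, 12, 3], [14, 12, 3],
   [8, 5, 4], [9, 5, 4], [10, 5, 4], [12, 5, 4], [13, 5, 4], [14, 5, 4],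
   [8, 6, 4], [9, 6, 4], [10, 6, 4], [12, 6, 4], [13, 6, 4], [14, 6, 4],
   [9, 8, 4], [10, 8, 4], [13, 12, 4], [14, 12, 4], [10, 8, 5], [14, 9, 5],
   [13, 10, 5], [14, 12, 5], [9, 8, 6], [14, 9, 6], [13, 10, 6], [13, 12, 6],
   [8, 5, 4, 3], [9, 5, 4, 3], [10, 5, 4, 3], [12, 5, 4, 3], [13, 5, 4, 3], [14, 5, 4, 3],
   [8, 6, 4, 3], [9, 6, 4, 3], [10, 6, 4, 3], [12, 6, 4, 3], [13, 6, 4, 3], [14, 6, 4, 3],
   [9, 8, 4, 3], [10, 8, 4, 3], [13, 12, 4, 3], [14, 12, 4, 3], [10, 8, 5, 3], [14, 9, 5, 3],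
   [13, 10, 5, 3], [14, 12, 5, 3], [9, 8, 6, 3], [14, 9, 6, 3], [13, 10, 6, 3], [13, 12, 6, 3]]
def a6 : List (ℕ × ℕ) := [(35, 63), (33, 57), (20, 34)]
def chain6 : List (List (ℕ × ℕ) × ℕ) :=
  [([(41, 54), (28, 40), (33, 50)], 0),
   ([(44, 63), (18, 36), (17, 40)], 0),
   ([(11, 35), (33, 44), (22, 32)], 0)]
def root6 : ℕ := 5
def tree6 : List (ℕ × ℕ × ℕ) :=
  [(11, 5, 0), (14, 5, 0), (25, 5, 3), (40, 25, 0), (49, 25, 0), (17, 40, 2),
   (18, 49, 1), (41, 17, 0), (56, 17, 0), (34, 17, 1), (51, 17, 1), (57, 17, 2),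
   (38, 18, 0), (52, 18, 0), (35, 18, 1), (20, 34, 0), (16, 34, 3), (31, 51, 0),
   (24, 57, 0), (28, 35, 0), (54, 20, 0), (32, 16, 0), (48, 16, 0), (44, 31, 0),
   (33, 24, 0), (7, 24, 3), (63, 28, 0), (19, 33, 1), (10, 7, 0), (13, 7, 0),
   (47, 19, 0), (60, 19, 0), (50, 19, 1), (22, 50, 0), (36, 22, 0)]
def a8 : List (ℕ × ℕ) := [(139, 158), (49, 229), (214, 227), (25, 149)]
def chain8 : List (List (ℕ × ℕ) × ℕ) :=
  [([(107, 162), (98, 168), (78, 242), (79, 253)], 0),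
   ([(43, 197), (94, 149), (23, 221), (106, 173)], 1),
   ([(25, 168), (81, 137), (173, 182), (141, 214)], 0)]
def root8 : ℕ := 17
def tree8 : List (ℕ × ℕ × ℕ) :=
  [(169, 17, 0), (184, 17, 0), (137, 17, 1), (152, 17, 1), (77, 17, 2), (92, 17, 2),
   (76, 137, 0), (108, 152, 0), (163, 77, 0), (238, 77, 0), (27, 92, 0), (197, 76, 0),
   (21, 76, 2), (244, 108, 0), (61, 238, 1), (71, 27, 0), (138, 27, 1), (145, 27, 1),
   (139, 21, 0), (158, 21, 0), (89, 21, 2), (198, 61, 0), (251, 61, 0), (211, 61, 1),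
   (114, 138, 0), (46, 145, 0), (23, 89, 0), (101, 211, 0), (248, 114, 0), (191, 46, 0),
   (78, 23, 0), (141, 23, 1), (154, 23, 1), (202, 23, 2), (221, 23, 2), (182, 101, 0),
   (19, 191, 3), (127, 141, 0), (38, 154, 0), (35, 202, 0), (122, 221, 0), (106, 19, 0),
   (121, 19, 0), (143, 19, 1), (156, 19, 1), (201, 19, 2), (218, 19, 2), (242, 127, 0),
   (188, 38, 0), (233, 35, 0), (84, 35, 1), (119, 35, 1), (229, 35, 2), (167, 122, 0),
   (43, 122, 1), (34, 143, 0), (91, 156, 0), (94, 201, 0), (39, 218, 0), (54, 84, 0),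
   (168, 119, 0), (223, 119, 0), (49, 229, 0), (196, 43, 0), (239, 43, 0), (81, 43, 1),
   (173, 34, 0), (199, 91, 0), (151, 94, 0), (253, 39, 0), (86, 39, 1), (113, 39, 1),
   (214, 39, 2), (98, 54, 0), (212, 49, 0), (50, 81, 0), (31, 151, 1), (178, 86, 0),
   (228, 86, 0), (62, 113, 0), (53, 214, 0), (99, 50, 0), (107, 31, 0), (116, 31, 0),
   (136, 31, 1), (226, 31, 2), (79, 62, 0), (227, 53, 0), (25, 116, 2), (42, 136, 0),
   (83, 226, 0), (140, 25, 0), (149, 25, 0), (109, 25, 2), (162, 42, 0), (177, 83, 0),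
   (47, 83, 1), (147, 109, 0), (254, 109, 0), (216, 47, 0), (247, 47, 0), (124, 47, 1),
   (29, 147, 1), (58, 124, 0), (166, 29, 0), (187, 29, 0), (142, 29, 1), (100, 29, 2),
   (70, 58, 0), (69, 142, 0), (181, 100, 0), (209, 100, 0), (203, 69, 0), (57, 209, 1),
   (200, 57, 0), (241, 57, 0), (232, 57, 1), (68, 232, 0), (172, 68, 0)]

end CfsgLib.H1Small
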