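import Cfsg.Agent.Lib.H1Small.Main
import Cfsg.Agent.Lib.H1Small.Data
import Cfsg.Agent.Lib.ReflectionGen
import Cfsg.Agent.Lib.FiniteForms.Standard

/-!
The three orthogonal spaces over two elements.
-/

set_option autoImplicit false
set_option Elab.async false

namespace CfsgLib.H1Small

open Matrix QuadraticMap

variable {ι : Type} [Fintype ι] [DecidableEq ι]

/-- A quadratic form from a function with bilinear polar form given by a matrix. -/
def mkForm (q : (ι → F2) → F2) (M : Matrix ι ι F2) (h0 : q 0 = 0)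
    (hp : ∀ u v, polar q u v = u ⬝ᵥ (M *ᵥ v)) : QuadraticForm F2 (ι → F2) :=
  QuadraticMap.ofPolar q
    (fun a x => by
      have ha : a = 0 ∨ a = 1 := by revert a; decide
      rcases ha with rfl | rfl
      · simp [h0]
      · simp)
    (fun x x' y => by simp only [hp, add_dotProduct])
    (fun a x y => by simp only [hp, smul_dotProduct, smul_eq_mul])

theorem mkForm_nondeg (q : (ι → F2) → F2) (M : Matrix ι ι F2) (h0 : q 0 = 0)
    (hp : ∀ u v, polar q u v = u ⬝ᵥ (M *ᵥ v)) (hdet : M.det ≠ 0) :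
    (polarBilin (mkForm q M h0 hp)).Nondegenerate := by
  constructor
  · intro u h
    have h' : u ᵥ* M = 0 := funext fun i => by
      have := h (Pi.single i 1)
      rwa [show polarBilin (mkForm q M h0 hp) u (Pi.single i 1) = polar q u (Pi.single i 1) from rfl,
        hp, Matrix.dotProduct_mulVec, dotProduct_single, mul_one] at this
    exact Matrix.eq_zero_of_vecMul_eq_zero hdet h'
  · intro v h
    have h' : M *ᵥ v = 0 := funext fun i => by
      have := h (Pi.single i 1)
      rwa [show polarBilin (mkForm q M h0 hp) (Pi.single i 1) v = polar q (Pi.single i 1) v from rfl,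
        hp, single_dotProduct, one_mul] at this
    exact Matrix.eq_zero_of_mulVec_eq_zero hdet h'

/-- Coordinates from bits. -/
def bits (idx : ι → ℕ) (x : ℕ) (j : ι) : F2 := if Nat.testBit x (idx j) then 1 else 0

omit [Fintype ι] [DecidableEq ι] in
theorem bits_xor (idx : ι → ℕ) (x y : ℕ) : bits idx (x ^^^ y) = bits idx x + bits idx y := by
  funext j
  simp only [bits, Pi.add_apply, Nat.testBit_xor]
  cases Nat.testBit x (idx j) <;> cases Nat.testBit y (idx j) <;> decide

theorem bits_surj {n : ℕ} (idx : ι → ℕ) (hcard : Fintype.card ι = n)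
    (hzero : ∀ x < 2 ^ n, bits idx x = 0 → x = 0) (w : ι → F2) : ∃ x < 2 ^ n, bits idx x = w := by
  have hinj : Function.Injective (fun x : Fin (2 ^ n) => bits idx (x : ℕ)) := by
    intro x y h
    refine Fin.ext (Nat.xor_eq_zero_iff.mp (hzero _ (Nat.xor_lt_two_pow x.2 y.2) ?_))
    simp only at h
    rw [bits_xor, h]
    exact ZModModule.add_self _
  have hbij := (Fintype.bijective_iff_injective_and_card _).mpr ⟨hinj, by simp [hcard]⟩
  obtain ⟨x, hx⟩ := hbij.2 w
  exact ⟨x, x.2, hx⟩

/-- Index of the coordinates for the minus forms. -/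
def idxMinus (m : ℕ) : (Fin m ⊕ Fin m) ⊕ Fin 2 → ℕ
  | .inl (.inl i) => i
  | .inl (.inr i) => m + i
  | .inr k => 2 * m + k

/-- Index of the coordinates for the plus forms. -/
def idxPlus (m : ℕ) : Fin m ⊕ Fin m → ℕ
  | .inl i => i
  | .inr i => m + i

def hypBits (m x : ℕ) : Bool :=
  (List.range m).foldr (fun i s => (Nat.testBit x i && Nat.testBit x (m + i)) ^^ s) false

def qMinus (m x : ℕ) : Bool :=
  hypBits m x ^^ Nat.testBit x (2 * m) ^^ (Nat.testBit x (2 * m) && Nat.testBit x (2 * m + 1)) ^^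
    Nat.testBit x (2 * m + 1)

theorem zero_minus (m : ℕ) : Cfsg.quadFormMinus m F2 1 1 0 = 0 := by simp [Cfsg.quadFormMinus]

theorem zero_plus (m : ℕ) : Cfsg.quadFormPlus m F2 0 = 0 := by simp [Cfsg.quadFormPlus]

def formMinus (m : ℕ) : QuadraticForm F2 ((Fin m ⊕ Fin m) ⊕ Fin 2 → F2) :=
  mkForm (Cfsg.quadFormMinus m F2 1 1) (CfsgLib.FiniteForms.ellMat m 1 1) (zero_minus m)
    (CfsgLib.FiniteForms.polar_minus m 1 1)

def formPlus (m : ℕ) : QuadraticForm F2 (Fin m ⊕ Fin m → F2) :=
  mkForm (Cfsg.quadFormPlus m F2) (CfsgLib.FiniteForms.hypMat F2 m) (zero_plus m)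
    (CfsgLib.FiniteForms.polar_plus m)

theorem formMinus_nondeg (m : ℕ) : (polarBilin (formMinus m)).Nondegenerate := by
  refine mkForm_nondeg _ _ _ _ ?_
  rw [CfsgLib.FiniteForms.det_ellMat]
  exact mul_ne_zero (pow_ne_zero _ (by decide)) (by decide)

theorem formPlus_nondeg (m : ℕ) : (polarBilin (formPlus m)).Nondegenerate := by
  refine mkForm_nondeg _ _ _ _ ?_
  rw [CfsgLib.FiniteForms.det_hypMat]
  exact pow_ne_zero _ (by decide)

def D4 : Model ((Fin 1 ⊕ Fin 1) ⊕ Fin 2) where
  Q := formMinus 1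
  T := bits (idxMinus 1)
  n := 4
  qn := qMinus 1
  hxor := bits_xor _
  hQ := by decide +kernel
  hbasis := by decide +kernel
  hsurj := bits_surj _ rfl (by decide +kernel)
  hzero := by decide +kernel

def D6 : Model ((Fin 2 ⊕ Fin 2) ⊕ Fin 2) where
  Q := formMinus 2
  T := bits (idxMinus 2)
  n := 6
  qn := qMinus 2
  hxor := bits_xor _
  hQ := by decide +kernel
  hbasis := by decide +kernel
  hsurj := bits_surj _ rfl (by decide +kernel)
  hzero := by decide +kernel

def D8 : Model (Fin 4 ⊕ Fin 4) where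
  Q := formPlus 4
  T := bits (idxPlus 4)
  n := 8
  qn := hypBits 4
  hxor := bits_xor _
  hQ := by decide +kernel
  hbasis := by decide +kernel
  hsurj := bits_surj _ rfl (by decide +kernel)
  hzero := by decide +kernel

theorem generated_of_refl (D : Model ι) (hQ : (polarBilin D.Q).Nondegenerate)
    (hι : Fintype.card ι ≠ 4) : D.Generated := by
  refine Model.generated_of_closure (eq_top_iff.mpr ?_)
  rw [← CfsgLib.ReflectionGen.matrix_closure D.Q hQ (Or.inr hι), Subgroup.closure_le]
  rintro g ⟨v, hv, hg⟩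
  obtain ⟨x, hx, rfl⟩ := D.hsurj v
  refine Subgroup.subset_closure ⟨x, Subtype.ext (Units.ext (Matrix.ext_of_mulVec_single fun j => ?_))⟩
  have hval : D.valid x = true := by
    simp only [Model.valid, Bool.and_eq_true, decide_eq_true_eq]
    refine ⟨hx, ?_⟩
    rw [D.hQ x hx] at hv
    cases h : D.qn x
    · simp [h] at hv
    · rfl
  show D.rmat x *ᵥ _ = _
  rw [hg, D.rmat_mulVec, if_pos hval, CfsgLib.PolarVec.reflection_mulVec, (D.q_of_valid hval).2]
  simp

/-- Every choice of basis images occurs among the tabulated words. -/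
def tableOK : Bool :=
  (List.range 16).all fun c0 => !(D4.qn c0 == D4.qn 1) ||
  (List.range 16).all fun c1 => !(D4.qn c1 == D4.qn 2) || !(D4.pn c0 c1 == D4.pn 1 2) ||
  (List.range 16).all fun c2 => !(D4.qn c2 == D4.qn 4) || !(D4.pn c0 c2 == D4.pn 1 4) ||
    !(D4.pn c1 c2 == D4.pn 2 4) ||
  (List.range 16).all fun c3 => !(D4.qn c3 == D4.qn 8) || !(D4.pn c0 c3 == D4.pn 1 8) ||
    !(D4.pn c1 c3 == D4.pn 2 8) || !(D4.pn c2 c3 == D4.pn 4 8) ||
    table4.any fun L => D4.run L 1 == c0 && D4.run L 2 == c1 && D4.run L 4 == c2 && D4.run L 8 == c3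

theorem tableOK_true : tableOK = true := by decide +kernel

theorem generated4 : D4.Generated := by
  intro g
  have hcol : ∀ i : ℕ, ∃ c < 2 ^ 4, D4.act g (D4.T i) = D4.T c := fun i => by
    obtain ⟨c, hc, hT⟩ := D4.hsurj (D4.act g (D4.T i))
    exact ⟨c, hc, hT.symm⟩
  choose c hc hact using hcol
  have hq : ∀ i < 2 ^ 4, D4.qn (c i) = D4.qn i := fun i hi => by
    have h := g.2 (D4.T i) (D4.T i)
    change D4.Q (D4.act g (D4.T i)) = D4.Q (D4.T i) at h
    rw [hact i, D4.hQ _ (hc i), D4.hQ _ hi] at h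
    revert h
    cases D4.qn (c i) <;> cases D4.qn i <;> decide
  have hp : ∀ i < 2 ^ 4, ∀ j < 2 ^ 4, D4.pn (c i) (c j) = D4.pn i j := fun i hi j hj => by
    have h1 := D4.polar_T (hc i) (hc j)
    rw [← hact i, ← hact j] at h1
    have h2 : polar (⇑D4.Q) (D4.act g (D4.T i)) (D4.act g (D4.T j)) = polar (⇑D4.Q) (D4.T i) (D4.T j) := by
      have hg : ∀ w, D4.Q (D4.act g w) = D4.Q w := fun w => g.2 w w
      simp only [polar, ← Model.act_add, hg]
    rw [h2, D4.polar_T hi hj] at h1
    revert h1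
    cases D4.pn (c i) (c j) <;> cases D4.pn i j <;> decide
  have h := tableOK_true
  simp only [tableOK, List.all_eq_true, List.mem_range, Bool.or_eq_true, Bool.not_eq_true',
    beq_eq_false_iff_ne, List.any_eq_true, Bool.and_eq_true, beq_iff_eq] at h
  have q1 := hq 1 (by norm_num); have q2 := hq 2 (by norm_num)
  have q4 := hq 4 (by norm_num); have q8 := hq 8 (by norm_num)
  have p12 := hp 1 (by norm_num) 2 (by norm_num); have p14 := hp 1 (by norm_num) 4 (by norm_num)
  have p18 := hp 1 (by norm_num) 8 (by norm_num); have p24 := hp 2 (by norm_num) 4 (by norm_num)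
  have p28 := hp 2 (by norm_num) 8 (by norm_num); have p48 := hp 4 (by norm_num) 8 (by norm_num)
  rcases h (c 1) (hc 1) with h | h
  · exact absurd q1 h
  rcases h (c 2) (hc 2) with (h | h) | h
  · exact absurd q2 h
  · exact absurd p12 h
  rcases h (c 4) (hc 4) with ((h | h) | h) | h
  · exact absurd q4 h
  · exact absurd p14 h
  · exact absurd p24 h
  rcases h (c 8) (hc 8) with (((h | h) | h) | h) | ⟨L, _, ⟨⟨l1, l2⟩, l4⟩, l8⟩
  · exact absurd q8 h
  · exact absurd p18 h
  · exact absurd p28 h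
  · exact absurd p48 h
  refine ⟨L, Subtype.ext (Units.ext (Matrix.ext_of_mulVec_single fun j => ?_))⟩
  obtain ⟨i, hi, hj⟩ := D4.hbasis j
  rw [hj]
  show D4.act g _ = D4.act (D4.P L) _
  rw [D4.act_P L (Nat.pow_lt_pow_right (by norm_num) hi), hact]
  congr 1
  change i < 4 at hi
  interval_cases i <;> simp [l1, l2, l4, l8]

theorem small4_ok : Model.smallOK D4 a4 b4 root4 tree4 = true := by decide +kernel

theorem cert6_ok : Model.certOK D6 a6 chain6 root6 tree6 = true := by decide +kernel

theorem cert8_ok : Model.certOK D8 a8 chain8 root8 tree8 = true := by decide +kernel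

theorem generated6 : D6.Generated := generated_of_refl D6 (formMinus_nondeg 2) (by simp)

theorem generated8 : D8.Generated := generated_of_refl D8 (formPlus_nondeg 4) (by simp)

end CfsgLib.H1Small
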