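import Mathlib
import Cfsg.Prelude.Def_Classical

/-!
A certificate calculus showing that every crossed homomorphism from a small `Ω` into its natural
module over two elements is principal.
-/

set_option autoImplicit false

namespace CfsgLib.H1Small

open Matrix QuadraticMap

abbrev F2 := ZMod 2

variable {ι : Type} [Fintype ι] [DecidableEq ι]

/-- A quadratic space over `F₂` with vectors coded by numbers. -/
structure Model (ι : Type) [Fintype ι] [DecidableEq ι] where
  Q : QuadraticForm F2 (ι → F2)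
  T : ℕ → ι → F2
  n : ℕ
  qn : ℕ → Bool
  hxor : ∀ x y, T (x ^^^ y) = T x + T y
  hQ : ∀ x < 2 ^ n, Q (T x) = if qn x then 1 else 0
  hbasis : ∀ j, ∃ i < n, Pi.single j 1 = T (2 ^ i)
  hsurj : ∀ w, ∃ x < 2 ^ n, T x = w
  hzero : ∀ x < 2 ^ n, T x = 0 → x = 0

variable (D : Model ι)

def Model.pn (u v : ℕ) : Bool := D.qn (u ^^^ v) ^^ D.qn u ^^ D.qn v
def Model.valid (v : ℕ) : Bool := decide (v < 2 ^ D.n) && D.qn v
def Model.rn (v x : ℕ) : ℕ := if D.valid v && D.pn v x then x ^^^ v else x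
def Model.run (L : List ℕ) (x : ℕ) : ℕ := L.foldr D.rn x
def Model.same (L L' : List ℕ) : Bool :=
  (List.range D.n).all fun i => D.run L (2 ^ i) == D.run L' (2 ^ i)
def Model.edge (u v : ℕ) : Bool :=
  D.valid u && D.valid v && D.valid (u ^^^ v) && D.same [u, v] [u, u ^^^ v, u, u ^^^ v]
def Model.flat (L : List (ℕ × ℕ)) : List ℕ := L.flatMap fun e => [e.1, e.2]

theorem cast_bool (a b c : Bool) :
    ((if (a ^^ b ^^ c) then 1 else 0) : F2) =
      (if a then 1 else 0) - (if b then 1 else 0) - (if c then 1 else 0) := by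
  revert a b c; decide

namespace Model

theorem polar_T {u v : ℕ} (hu : u < 2 ^ D.n) (hv : v < 2 ^ D.n) :
    polar (⇑D.Q) (D.T u) (D.T v) = if D.pn u v then 1 else 0 := by
  rw [polar, ← D.hxor, D.hQ _ (Nat.xor_lt_two_pow hu hv), D.hQ _ hu, D.hQ _ hv]
  exact (cast_bool _ _ _).symm

theorem rn_lt {v x : ℕ} (hx : x < 2 ^ D.n) : D.rn v x < 2 ^ D.n := by
  rw [rn]
  split_ifs with h
  · simp only [valid, Bool.and_eq_true, decide_eq_true_eq] at h
    exact Nat.xor_lt_two_pow hx h.1.1
  · exact hx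

theorem run_lt (L : List ℕ) {x : ℕ} (hx : x < 2 ^ D.n) : D.run L x < 2 ^ D.n := by
  induction L with
  | nil => exact hx
  | cons v L ih => exact D.rn_lt ih

theorem q_of_valid {v : ℕ} (h : D.valid v = true) : v < 2 ^ D.n ∧ D.Q (D.T v) = 1 := by
  simp only [valid, Bool.and_eq_true, decide_eq_true_eq] at h
  exact ⟨h.1, by rw [D.hQ _ h.1, h.2]; rfl⟩

/-- The matrix of a coded reflection. -/
def rmat (v : ℕ) : Matrix ι ι F2 :=
  if D.valid v then 1 - Matrix.vecMulVec (D.T v) (fun j => polar (⇑D.Q) (D.T v) (Pi.single j 1)) else 1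

theorem rmat_mulVec (v : ℕ) (w : ι → F2) :
    D.rmat v *ᵥ w = if D.valid v then w + polar (⇑D.Q) (D.T v) w • D.T v else w := by
  rw [rmat]
  split_ifs
  · rw [Matrix.sub_mulVec, Matrix.one_mulVec, Matrix.vecMulVec_mulVec, sub_eq_add_neg,
      show (fun j => polar (⇑D.Q) (D.T v) (Pi.single j 1)) ⬝ᵥ w = polar (⇑D.Q) (D.T v) w from ?_]
    · ext i; simp [mul_comm, ZMod.neg_eq_self_mod_two]
    · conv_rhs => rw [← QuadraticMap.polarBilin_apply_apply, pi_eq_sum_univ w, map_sum]
      simp only [dotProduct, map_smul, smul_eq_mul, QuadraticMap.polarBilin_apply_apply]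
      refine Finset.sum_congr rfl fun j _ => ?_
      rw [mul_comm]
      congr 2
      funext k
      simp [Pi.single_apply, eq_comm]
  · exact Matrix.one_mulVec w

theorem rmat_T {v x : ℕ} (hx : x < 2 ^ D.n) : D.rmat v *ᵥ D.T x = D.T (D.rn v x) := by
  rw [rmat_mulVec, rn]
  by_cases h : D.valid v
  · rw [if_pos h, D.polar_T (D.q_of_valid h).1 hx]
    cases hp : D.pn v x <;> simp [h, D.hxor]
  · simp [h]

theorem rmat_sq (v : ℕ) : D.rmat v * D.rmat v = 1 := by
  refine Matrix.ext_of_mulVec_single fun j => ?_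
  rw [← Matrix.mulVec_mulVec, Matrix.one_mulVec]
  simp only [rmat_mulVec]
  split_ifs with h
  · have hh : polar (⇑D.Q) (D.T v) (D.T v) = 0 := by
      rw [QuadraticMap.polar_self, two_nsmul]; exact ZModModule.add_self _
    simp only [polar_add_right, polar_smul_right, hh, smul_zero, add_zero]
    rw [add_assoc, ZModModule.add_self, add_zero]
  · rfl

abbrev G := Cfsg.isometryGroup F2 (⇑D.Q)

theorem rmat_iso (v : ℕ) (w : ι → F2) : D.Q (D.rmat v *ᵥ w) = D.Q w := by
  rw [rmat_mulVec]
  split_ifs with h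
  · rw [QuadraticMap.map_add D.Q, QuadraticMap.map_smul, (D.q_of_valid h).2, polar_smul_right,
      polar_comm (⇑D.Q) w]
    generalize polar (⇑D.Q) (D.T v) w = p
    generalize D.Q w = q
    simp only [smul_eq_mul]
    revert p q
    decide
  · rfl

/-- A coded reflection. -/
def R (v : ℕ) : D.G :=
  ⟨⟨D.rmat v, D.rmat v, D.rmat_sq v, D.rmat_sq v⟩, fun w _ => D.rmat_iso v w⟩

theorem R_sq (v : ℕ) : D.R v * D.R v = 1 := Subtype.ext (Units.ext (D.rmat_sq v))

theorem R_inv (v : ℕ) : (D.R v)⁻¹ = D.R v := inv_eq_of_mul_eq_one_right (D.R_sq v)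

/-- The product of a list of coded reflections. -/
def P (L : List ℕ) : D.G := (L.map D.R).prod

@[simp] theorem P_cons (v : ℕ) (L : List ℕ) : D.P (v :: L) = D.R v * D.P L := by simp [P]
@[simp] theorem P_nil : D.P [] = 1 := rfl
theorem P_append (L L' : List ℕ) : D.P (L ++ L') = D.P L * D.P L' := by simp [P]

/-- The action on vectors. -/
def act (g : D.G) (w : ι → F2) : ι → F2 := g.1.1 *ᵥ w

theorem act_mul (g h : D.G) (w : ι → F2) : D.act (g * h) w = D.act g (D.act h w) :=
  (Matrix.mulVec_mulVec w g.1.1 h.1.1).symm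

theorem act_one (w : ι → F2) : D.act 1 w = w := Matrix.one_mulVec w

theorem act_P (L : List ℕ) {x : ℕ} (hx : x < 2 ^ D.n) :
    D.act (D.P L) (D.T x) = D.T (D.run L x) := by
  induction L with
  | nil => exact D.act_one _
  | cons v L ih =>
    rw [P_cons, act_mul, ih]
    exact D.rmat_T (D.run_lt L hx)

theorem eq_of_same {L L' : List ℕ} (h : D.same L L' = true) : D.P L = D.P L' := by
  refine Subtype.ext (Units.ext (Matrix.ext_of_mulVec_single fun j => ?_))
  obtain ⟨i, hi, hj⟩ := D.hbasis j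
  have hlt : 2 ^ i < 2 ^ D.n := Nat.pow_lt_pow_right (by norm_num) hi
  rw [hj]
  show D.act _ _ = D.act _ _
  rw [D.act_P L hlt, D.act_P L' hlt]
  simp only [same, List.all_eq_true, beq_iff_eq] at h
  rw [h i (List.mem_range.mpr hi)]

theorem edge_mem {u v : ℕ} (h : D.edge u v = true) : D.P [u, v] ∈ Cfsg.Omega F2 (⇑D.Q) := by
  simp only [edge, Bool.and_eq_true] at h
  rw [D.eq_of_same h.2]
  have := Subgroup.commutator_mem_commutator (Subgroup.mem_top (D.R u))
    (Subgroup.mem_top (D.R (u ^^^ v)))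
  rw [commutatorElement_def, D.R_inv, D.R_inv] at this
  show _ ∈ commutator D.G
  rw [commutator_def]
  simpa [P, mul_assoc] using this

theorem flat_mem {L : List (ℕ × ℕ)} (h : L.all (fun e => D.edge e.1 e.2) = true) :
    D.P (flat L) ∈ Cfsg.Omega F2 (⇑D.Q) := by
  induction L with
  | nil => exact one_mem _
  | cons e L ih =>
    simp only [List.all_cons, Bool.and_eq_true] at h
    rw [show flat (e :: L) = [e.1, e.2] ++ flat L from rfl, P_append]
    exact mul_mem (D.edge_mem h.1) (ih h.2)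

/-- No nonzero fixed vector. -/
def fpf (L : List ℕ) : Bool := (List.range (2 ^ D.n)).all fun x => x == 0 || D.run L x != x

theorem T_zero : D.T 0 = 0 := by
  have := D.hxor 0 0
  rw [Nat.xor_self] at this
  exact left_eq_add.mp this

theorem fixed_eq_zero {L : List ℕ} (h : D.fpf L = true) {w : ι → F2} (hw : D.act (D.P L) w = w) :
    w = 0 := by
  obtain ⟨x, hx, rfl⟩ := D.hsurj w
  rw [D.act_P L hx] at hw
  simp only [fpf, List.all_eq_true, Bool.or_eq_true, beq_iff_eq, bne_iff_ne] at h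
  rcases h x (List.mem_range.mpr hx) with rfl | hne
  · exact D.T_zero
  · have h0 : D.T (D.run L x ^^^ x) = 0 := by rw [D.hxor, hw]; exact ZModModule.add_self _
    have := D.hzero _ (Nat.xor_lt_two_pow (D.run_lt L hx) hx) h0
    exact absurd (Nat.xor_eq_zero_iff.mp this) hne

end Model

end CfsgLib.H1Small
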