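import Cfsg.Agent.Lib.H1Small.Basic

/-!
Vanishing of crossed homomorphisms from certificates.
-/

set_option autoImplicit false

namespace CfsgLib.H1Small

open Matrix QuadraticMap

variable {ι : Type} [Fintype ι] [DecidableEq ι] (D : Model ι)

namespace Model

/-- A crossed homomorphism. -/
def IsCocycle (f : ↥(Cfsg.Omega F2 (⇑D.Q)) → (ι → F2)) : Prop :=
  ∀ g h, f (g * h) = f g + D.act (g : D.G) (f h)

variable {D} {f : ↥(Cfsg.Omega F2 (⇑D.Q)) → (ι → F2)}

theorem act_add (g : D.G) (v w : ι → F2) : D.act g (v + w) = D.act g v + D.act g w :=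
  Matrix.mulVec_add _ _ _

theorem act_sub (g : D.G) (v w : ι → F2) : D.act g (v - w) = D.act g v - D.act g w :=
  Matrix.mulVec_sub _ _ _

theorem act_zero (g : D.G) : D.act g 0 = 0 := Matrix.mulVec_zero _

theorem cocycle_one (hf : D.IsCocycle f) : f 1 = 0 := by
  have h := hf 1 1
  rw [mul_one, OneMemClass.coe_one, D.act_one] at h
  exact left_eq_add.mp h

theorem cocycle_sub (hf : D.IsCocycle f) (v : ι → F2) :
    D.IsCocycle (fun g => f g - (D.act (g : D.G) v - v)) := by
  intro g h
  simp only [hf g h, Subgroup.coe_mul, D.act_mul, act_sub]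
  abel

/-- The elements on which a crossed homomorphism vanishes. -/
def zeroSet (hf : D.IsCocycle f) : Subgroup D.G where
  carrier := {g | ∃ h : g ∈ Cfsg.Omega F2 (⇑D.Q), f ⟨g, h⟩ = 0}
  one_mem' := ⟨one_mem _, cocycle_one hf⟩
  mul_mem' := by
    rintro a b ⟨ha, ha0⟩ ⟨hb, hb0⟩
    refine ⟨mul_mem ha hb, ?_⟩
    rw [show (⟨a * b, mul_mem ha hb⟩ : ↥(Cfsg.Omega F2 (⇑D.Q))) = ⟨a, ha⟩ * ⟨b, hb⟩ from rfl, hf,
      ha0, hb0, act_zero, add_zero]
  inv_mem' := by
    rintro a ⟨ha, ha0⟩
    refine ⟨inv_mem ha, ?_⟩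
    have h := hf ⟨a⁻¹, inv_mem ha⟩ ⟨a, ha⟩
    rw [show (⟨a⁻¹, inv_mem ha⟩ : ↥(Cfsg.Omega F2 (⇑D.Q))) * ⟨a, ha⟩ = 1 from
      Subtype.ext (inv_mul_cancel a), cocycle_one hf, ha0, act_zero, add_zero] at h
    exact h.symm

theorem zeroSet_le (hf : D.IsCocycle f) : zeroSet hf ≤ Cfsg.Omega F2 (⇑D.Q) := fun _ ⟨h, _⟩ => h

/-- An element commuting with a fixed-point-free zero is a zero. -/
theorem commute_step (hf : D.IsCocycle f) {a b : List ℕ} (ha : D.P a ∈ zeroSet hf)
    (hfix : D.fpf a = true) (hb : D.P b ∈ Cfsg.Omega F2 (⇑D.Q))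
    (hcomm : D.same (a ++ b) (b ++ a) = true) : D.P b ∈ zeroSet hf := by
  obtain ⟨ha, ha0⟩ := ha
  refine ⟨hb, ?_⟩
  have h := D.eq_of_same hcomm
  rw [P_append, P_append] at h
  have h1 := hf ⟨_, ha⟩ ⟨_, hb⟩
  have h2 := hf ⟨_, hb⟩ ⟨_, ha⟩
  rw [show (⟨_, ha⟩ : ↥(Cfsg.Omega F2 (⇑D.Q))) * ⟨_, hb⟩ = ⟨_, hb⟩ * ⟨_, ha⟩ from Subtype.ext h,
    h2, ha0, act_zero, add_zero, zero_add] at h1
  exact D.fixed_eq_zero hfix h1.symm

theorem act_surj {L : List ℕ} (h : D.fpf L = true) (w : ι → F2) :
    ∃ v, D.act (D.P L) v - v = w := by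
  have hinj : Function.Injective (fun v => D.act (D.P L) v - v) := by
    intro x y hxy
    have : D.act (D.P L) (x - y) = x - y := by
      rw [act_sub]; exact sub_eq_sub_iff_sub_eq_sub.mp hxy
    exact sub_eq_zero.mp (D.fixed_eq_zero h this)
  exact (Finite.injective_iff_surjective.mp hinj) w

/-- Connectivity certificate. -/
def treeOK (D : Model ι) : List ℕ → List (ℕ × ℕ) → Bool
  | seen, [] => (List.range (2 ^ D.n)).all fun v => !D.valid v || seen.contains v
  | seen, e :: rest => seen.contains e.2 && treeOK D (e.1 :: seen) rest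

theorem tree_connected {H : Subgroup D.G} {r : ℕ} :
    ∀ (tree : List (ℕ × ℕ)) (seen : List ℕ), treeOK D seen tree = true →
      (∀ e ∈ tree, D.P [e.1, e.2] ∈ H) → (∀ v ∈ seen, D.P [v, r] ∈ H) →
      ∀ v, D.valid v = true → D.P [v, r] ∈ H := by
  intro tree
  induction tree with
  | nil =>
    intro seen hok _ hseen v hv
    simp only [treeOK, List.all_eq_true, Bool.or_eq_true, Bool.not_eq_true'] at hok
    rcases hok v (List.mem_range.mpr (D.q_of_valid hv).1) with h | h
    · rw [hv] at h; exact absurd h (by simp)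
    · exact hseen v (List.contains_iff_mem.mp h)
  | cons e rest ih =>
    intro seen hok htree hseen
    simp only [treeOK, Bool.and_eq_true] at hok
    refine ih _ hok.2 (fun x hx => htree x (List.mem_cons_of_mem _ hx)) fun v hv => ?_
    rcases List.mem_cons.mp hv with rfl | hv
    · have := mul_mem (htree e List.mem_cons_self) (hseen e.2 (List.contains_iff_mem.mp hok.1))
      simpa [P, mul_assoc, ← mul_assoc (D.R e.2) (D.R e.2), D.R_sq] using this
    · exact hseen v hv

/-- Reflections generate. -/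
def Generated (D : Model ι) : Prop := ∀ g : D.G, ∃ L : List ℕ, g = D.P L

theorem generated_of_closure (h : Subgroup.closure (Set.range D.R) = ⊤) : Generated D := by
  intro g
  have hg : g ∈ Subgroup.closure (Set.range D.R) := h ▸ Subgroup.mem_top g
  induction hg using Subgroup.closure_induction with
  | mem x hx => obtain ⟨v, rfl⟩ := hx; exact ⟨[v], by simp [P]⟩
  | one => exact ⟨[], rfl⟩
  | mul x y _ _ hx hy =>
    obtain ⟨L, rfl⟩ := hx; obtain ⟨L', rfl⟩ := hy
    exact ⟨L ++ L', (D.P_append L L').symm⟩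
  | inv x _ hx =>
    obtain ⟨L, rfl⟩ := hx
    refine ⟨L.reverse, ?_⟩
    simp only [P, List.prod_inv_reverse, List.map_reverse, List.map_map]
    congr 2

theorem R_invalid {v : ℕ} (h : D.valid v = false) : D.R v = 1 :=
  Subtype.ext (Units.ext (by show D.rmat v = 1; simp [rmat, h]))

theorem P_filter (L : List ℕ) : D.P (L.filter D.valid) = D.P L := by
  induction L with
  | nil => rfl
  | cons v L ih => cases h : D.valid v <;> simp [h, ih, R_invalid]

theorem omega_le (hgen : Generated D) {H : Subgroup D.G} {r : ℕ}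
    (hr : ∀ v, D.valid v = true → D.P [v, r] ∈ H) : Cfsg.Omega F2 (⇑D.Q) ≤ H := by
  have hpair : ∀ u v, D.valid u = true → D.valid v = true → D.P [u, v] ∈ H := by
    intro u v hu hv
    have := mul_mem (hr u hu) (inv_mem (hr v hv))
    simpa [P, mul_assoc, D.R_inv, ← mul_assoc (D.R r) (D.R r), D.R_sq] using this
  have heven : ∀ k : ℕ, ∀ L : List ℕ, L.length = 2 * k → (∀ v ∈ L, D.valid v = true) → D.P L ∈ H := by
    intro k
    induction k with
    | zero => intro L hL _; rw [List.length_eq_zero_iff.mp hL]; exact one_mem _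
    | succ k ih =>
      rintro (_ | ⟨a, _ | ⟨b, L⟩⟩) hL hv
      · simp at hL
      · simp at hL; omega
      · rw [show a :: b :: L = [a, b] ++ L from rfl, P_append]
        refine mul_mem (hpair a b (hv a (by simp)) (hv b (by simp))) (ih L ?_ fun v h => hv v (by simp [h]))
        simp at hL; omega
  show commutator D.G ≤ H
  rw [commutator_def, Subgroup.commutator_le]
  intro g _ h _
  obtain ⟨L, rfl⟩ := hgen g
  obtain ⟨L', rfl⟩ := hgen h
  have hinv : ∀ L : List ℕ, (D.P L)⁻¹ = D.P L.reverse := fun L => by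
    simp only [P, List.prod_inv_reverse, List.map_reverse, List.map_map]
    congr 2
  rw [commutatorElement_def, ← P_filter L, ← P_filter L', hinv, hinv, ← P_append, ← P_append,
    ← P_append]
  refine heven ((L.filter D.valid).length + (L'.filter D.valid).length) _ (by simp; omega) ?_
  intro v hv
  simp only [List.mem_append, List.mem_reverse, List.mem_filter] at hv
  aesop

/-- Chain certificate: every item commutes with an earlier one and has no nonzero fixed vector. -/
def chainOK (D : Model ι) : List (List ℕ) → List (List (ℕ × ℕ) × ℕ) → Bool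
  | _, [] => true
  | known, (L, j) :: rest =>
      L.all (fun e => D.edge e.1 e.2) && D.fpf (flat L) && decide (j < known.length) &&
        D.same (known.getD j [] ++ flat L) (flat L ++ known.getD j []) &&
        chainOK D (known ++ [flat L]) rest

theorem chain_zero (hf : D.IsCocycle f) :
    ∀ (items : List (List (ℕ × ℕ) × ℕ)) (known : List (List ℕ)),
      chainOK D known items = true → (∀ L ∈ known, D.P L ∈ zeroSet hf ∧ D.fpf L = true) →
      ∀ L ∈ known ++ items.map (fun i => flat i.1), D.P L ∈ zeroSet hf ∧ D.fpf L = true := by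
  intro items
  induction items with
  | nil => intro known _ hk L hL; simp only [List.map_nil, List.append_nil] at hL; exact hk L hL
  | cons it rest ih =>
    obtain ⟨M, j⟩ := it
    intro known hok hk L hL
    simp only [chainOK, Bool.and_eq_true, decide_eq_true_eq] at hok
    obtain ⟨⟨⟨⟨he, hfix⟩, hj⟩, hs⟩, hrest⟩ := hok
    refine ih _ hrest (fun L' hL' => ?_) L (by simpa [List.append_assoc] using hL)
    rcases List.mem_append.mp hL' with h | h
    · exact hk L' h
    · rw [List.mem_singleton] at h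
      subst h
      have hm : known.getD j [] ∈ known := by
        rw [List.getD_eq_getElem _ _ hj]; exact List.getElem_mem hj
      exact ⟨commute_step hf (hk _ hm).1 (hk _ hm).2 (D.flat_mem he) hs, hfix⟩

/-- The whole certificate in the connected case. -/
def certOK (D : Model ι) (a : List (ℕ × ℕ)) (chain : List (List (ℕ × ℕ) × ℕ)) (r : ℕ)
    (tree : List (ℕ × ℕ × ℕ)) : Bool :=
  a.all (fun e => D.edge e.1 e.2) && D.fpf (flat a) && chainOK D [flat a] chain &&
    treeOK D [r] (tree.map fun t => (t.1, t.2.1)) &&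
    tree.all fun t =>
      let K := [flat a] ++ chain.map (fun i => flat i.1)
      D.edge t.1 t.2.1 && decide (t.2.2 < K.length) &&
        D.same (K.getD t.2.2 [] ++ [t.1, t.2.1]) ([t.1, t.2.1] ++ K.getD t.2.2 [])

theorem principal (hgen : Generated D) (a : List (ℕ × ℕ)) (chain : List (List (ℕ × ℕ) × ℕ))
    (r : ℕ) (tree : List (ℕ × ℕ × ℕ)) (hok : certOK D a chain r tree = true)
    (hf : D.IsCocycle f) : ∃ v, ∀ g, f g = D.act (g : D.G) v - v := by
  simp only [certOK, Bool.and_eq_true, List.all_eq_true, decide_eq_true_eq] at hok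
  obtain ⟨⟨⟨⟨hea, hfa⟩, hch⟩, htree⟩, hed⟩ := hok
  have hma := D.flat_mem (List.all_eq_true.mpr hea)
  obtain ⟨v, hv⟩ := act_surj hfa (f ⟨_, hma⟩)
  have hf' := cocycle_sub hf v
  have hk := chain_zero hf' chain [flat a] hch (fun L hL => by
    rw [List.mem_singleton] at hL
    subst hL
    exact ⟨⟨hma, sub_eq_zero.mpr hv.symm⟩, hfa⟩)
  have hH := omega_le hgen (r := r) (tree_connected _ _ htree (fun e he => by
    obtain ⟨t, ht, rfl⟩ := List.mem_map.mp he
    obtain ⟨⟨h1, h2⟩, h3⟩ := hed t ht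
    have hm : List.getD ([flat a] ++ chain.map (fun i => flat i.1)) t.2.2 [] ∈
        [flat a] ++ chain.map (fun i => flat i.1) := by
      rw [List.getD_eq_getElem _ _ h2]; exact List.getElem_mem h2
    exact commute_step hf' (hk _ hm).1 (hk _ hm).2 (D.edge_mem h1) h3) (fun x hx => by
    rw [List.mem_singleton] at hx
    subst hx
    have : D.P [x, x] = 1 := by simp [P, D.R_sq]
    rw [this]; exact one_mem _))
  refine ⟨v, fun g => ?_⟩
  obtain ⟨_, h0⟩ := hH g.2
  exact sub_eq_zero.mp h0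

/-- Certificate by two generators `a`, `b` with `b³ = (ab)² = 1`. -/
def smallOK (D : Model ι) (a b : List (ℕ × ℕ)) (r : ℕ) (tree : List (ℕ × ℕ × List Bool)) : Bool :=
  let A := flat a
  let B := flat b
  a.all (fun e => D.edge e.1 e.2) && b.all (fun e => D.edge e.1 e.2) && D.fpf A &&
    D.same (A ++ B ++ A ++ B) [] && D.same (B ++ B ++ B) [] &&
    ((List.range (2 ^ D.n)).all fun y => y == 0 ||
      D.run A y ^^^ D.run (A ++ B ++ A) y != 0 || y ^^^ D.run B y ^^^ D.run (B ++ B) y != 0) &&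
    treeOK D [r] (tree.map fun t => (t.1, t.2.1)) &&
    tree.all fun t => D.same [t.1, t.2.1] (t.2.2.flatMap fun c => if c then B else A)

theorem principal_small (hgen : Generated D) (a b : List (ℕ × ℕ)) (r : ℕ)
    (tree : List (ℕ × ℕ × List Bool)) (hok : smallOK D a b r tree = true)
    (hf : D.IsCocycle f) : ∃ v, ∀ g, f g = D.act (g : D.G) v - v := by
  simp only [smallOK, Bool.and_eq_true] at hok
  obtain ⟨⟨⟨⟨⟨⟨⟨hea, heb⟩, hfa⟩, hab⟩, hb3⟩, hy⟩, htree⟩, hed⟩ := hok
  have hma := D.flat_mem hea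
  have hmb := D.flat_mem heb
  obtain ⟨v, hv⟩ := act_surj hfa (f ⟨_, hma⟩)
  have hf' := cocycle_sub hf v
  set f' := fun g : ↥(Cfsg.Omega F2 (⇑D.Q)) => f g - (D.act (g : D.G) v - v) with hf'def
  have ha0 : f' ⟨_, hma⟩ = 0 := sub_eq_zero.mpr hv.symm
  obtain ⟨y, hylt, hyT⟩ := D.hsurj (f' ⟨_, hmb⟩)
  have hA : (⟨_, hma⟩ : ↥(Cfsg.Omega F2 (⇑D.Q))) * ⟨_, hmb⟩ * ⟨_, hma⟩ * ⟨_, hmb⟩ = 1 :=
    Subtype.ext (by
      show D.P (flat a) * D.P (flat b) * D.P (flat a) * D.P (flat b) = 1
      rw [← P_append, ← P_append, ← P_append, D.eq_of_same hab]; rfl)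
  have hB : (⟨_, hmb⟩ : ↥(Cfsg.Omega F2 (⇑D.Q))) * ⟨_, hmb⟩ * ⟨_, hmb⟩ = 1 :=
    Subtype.ext (by
      show D.P (flat b) * D.P (flat b) * D.P (flat b) = 1
      rw [← P_append, ← P_append, D.eq_of_same hb3]; rfl)
  have e1 := congrArg f' hA
  have e2 := congrArg f' hB
  rw [cocycle_one hf', hf', hf', hf', ha0, ← hyT] at e1
  rw [cocycle_one hf', hf', hf', ← hyT] at e2
  simp only [act_zero, add_zero, zero_add, Subgroup.coe_mul] at e1 e2
  rw [← P_append, ← P_append, D.act_P _ hylt, D.act_P _ hylt, ← D.hxor] at e1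
  rw [← P_append, D.act_P _ hylt, D.act_P _ hylt, ← D.hxor, ← D.hxor] at e2
  have h1 := D.hzero _ (Nat.xor_lt_two_pow (D.run_lt _ hylt) (D.run_lt _ hylt)) e1
  have h2 := D.hzero _
    (Nat.xor_lt_two_pow (Nat.xor_lt_two_pow hylt (D.run_lt _ hylt)) (D.run_lt _ hylt)) e2
  simp only [List.all_eq_true, Bool.or_eq_true, beq_iff_eq, bne_iff_ne] at hy
  have hy0 : y = 0 := by
    rcases hy y (List.mem_range.mpr hylt) with (h | h) | h
    · exact h
    · exact absurd h1 h
    · exact absurd h2 h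
  have hbZ : D.P (flat b) ∈ zeroSet hf' := ⟨hmb, by rw [← hyT, hy0]; exact D.T_zero⟩
  have haZ : D.P (flat a) ∈ zeroSet hf' := ⟨hma, ha0⟩
  have hword : ∀ w : List Bool,
      D.P (w.flatMap fun c => if c then flat b else flat a) ∈ zeroSet hf' := by
    intro w
    induction w with
    | nil => exact one_mem _
    | cons c w ih =>
      rw [List.flatMap_cons, P_append]
      refine mul_mem ?_ ih
      cases c
      · exact haZ
      · exact hbZ
  have hH := omega_le hgen (r := r) (tree_connected _ _ htree (fun e he => by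
    obtain ⟨t, ht, rfl⟩ := List.mem_map.mp he
    rw [D.eq_of_same ((List.all_eq_true.mp hed) t ht)]
    exact hword _) (fun x hx => by
    rw [List.mem_singleton] at hx
    subst hx
    have : D.P [x, x] = 1 := by simp [P, D.R_sq]
    rw [this]; exact one_mem _))
  refine ⟨v, fun g => ?_⟩
  obtain ⟨_, h0⟩ := hH g.2
  exact sub_eq_zero.mp h0

end Model

end CfsgLib.H1Small
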